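import Mathlib.LinearAlgebra.Dimension.Constructions
import Mathlib.LinearAlgebra.StdBasis
import Mathlib.GroupTheory.Coset.Card
import Mathlib.GroupTheory.OrderOfElement
import Mathlib.LinearAlgebra.FreeModule.StrongRankCondition
import Mathlib.Data.ZMod.QuotientGroup
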