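import Mathlib.CategoryTheory.Monoidal.Braided.Basic
import Mathlib.CategoryTheory.Monoidal.NaturalTransformation
import Mathlib.CategoryTheory.Groupoid
import Mathlib.CategoryTheory.Monoidal.CoherenceLemmas

/-!
# The Picardification of a symmetric monoidal groupoid

The hull is presented by generators and relations: objects are formal expressions in objects of
`A`, a unit, tensor products and duals; morphisms are generated by the morphisms of `A`, the
structure maps of a symmetric monoidal category, the structure maps of the lax monoidal functor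
from `A` and the cancellations `X ⊗ dual X ⟶ 1`, subject to the evident relations.
-/

set_option autoImplicit false

universe v u v' u'

open CategoryTheory MonoidalCategory Functor.LaxMonoidal

noncomputable section

namespace Groth.Agent.H14Cat

/-- Formal objects. -/
inductive PicObj (A : Type u) : Type u
  | of (a : A)
  | unit
  | tensor (X Y : PicObj A)
  | dual (X : PicObj A)

variable {A : Type u} [Category.{v} A] [MonoidalCategory A] [SymmetricCategory A]

/-- Formal morphisms. -/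
inductive PicHom : PicObj A → PicObj A → Type (max u v)
  | idm (X : PicObj A) : PicHom X X
  | compm {X Y Z : PicObj A} (f : PicHom X Y) (g : PicHom Y Z) : PicHom X Z
  | invm {X Y : PicObj A} (f : PicHom X Y) : PicHom Y X
  | tens {X Y X' Y' : PicObj A} (f : PicHom X Y) (g : PicHom X' Y') :
      PicHom (.tensor X X') (.tensor Y Y')
  | assocm (X Y Z : PicObj A) : PicHom (.tensor (.tensor X Y) Z) (.tensor X (.tensor Y Z))
  | leftm (X : PicObj A) : PicHom (.tensor .unit X) X
  | rightm (X : PicObj A) : PicHom (.tensor X .unit) X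
  | braid (X Y : PicObj A) : PicHom (.tensor X Y) (.tensor Y X)
  | of {a b : A} (f : a ⟶ b) : PicHom (.of a) (.of b)
  | mu (a b : A) : PicHom (.tensor (.of a) (.of b)) (.of (a ⊗ b))
  | eps : PicHom .unit (.of (𝟙_ A))
  | cancel (X : PicObj A) : PicHom (.tensor X (.dual X)) .unit

open PicHom in
/-- Relations between formal morphisms. -/
inductive PicRel : ∀ {X Y : PicObj A}, PicHom X Y → PicHom X Y → Prop
  | refl {X Y} (f : PicHom X Y) : PicRel f f
  | symm {X Y} {f g : PicHom X Y} : PicRel f g → PicRel g f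
  | trans {X Y} {f g h : PicHom X Y} : PicRel f g → PicRel g h → PicRel f h
  | comp_congr {X Y Z} {f f' : PicHom X Y} {g g' : PicHom Y Z} :
      PicRel f f' → PicRel g g' → PicRel (compm f g) (compm f' g')
  | inv_congr {X Y} {f f' : PicHom X Y} : PicRel f f' → PicRel (invm f) (invm f')
  | tensor_congr {X Y X' Y'} {f f' : PicHom X Y} {g g' : PicHom X' Y'} :
      PicRel f f' → PicRel g g' → PicRel (tens f g) (tens f' g')
  | id_comp {X Y} (f : PicHom X Y) : PicRel (compm (idm X) f) f
  | comp_id {X Y} (f : PicHom X Y) : PicRel (compm f (idm Y)) f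
  | comp_assoc {X Y Z W} (f : PicHom X Y) (g : PicHom Y Z) (h : PicHom Z W) :
      PicRel (compm (compm f g) h) (compm f (compm g h))
  | inv_comp {X Y} (f : PicHom X Y) : PicRel (compm (invm f) f) (idm Y)
  | comp_inv {X Y} (f : PicHom X Y) : PicRel (compm f (invm f)) (idm X)
  | tensor_id (X Y) : PicRel (tens (idm X) (idm Y)) (idm (.tensor X Y))
  | tensor_comp {X Y Z X' Y' Z'} (f : PicHom X Y) (f' : PicHom X' Y') (g : PicHom Y Z)
      (g' : PicHom Y' Z') :
      PicRel (compm (tens f f') (tens g g')) (tens (compm f g) (compm f' g'))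
  | assoc_natural {X₁ X₂ X₃ Y₁ Y₂ Y₃} (f₁ : PicHom X₁ Y₁) (f₂ : PicHom X₂ Y₂) (f₃ : PicHom X₃ Y₃) :
      PicRel (compm (tens (tens f₁ f₂) f₃) (assocm Y₁ Y₂ Y₃))
        (compm (assocm X₁ X₂ X₃) (tens f₁ (tens f₂ f₃)))
  | left_natural {X Y} (f : PicHom X Y) :
      PicRel (compm (tens (idm .unit) f) (leftm Y)) (compm (leftm X) f)
  | right_natural {X Y} (f : PicHom X Y) :
      PicRel (compm (tens f (idm .unit)) (rightm Y)) (compm (rightm X) f)
  | pentagon (W X Y Z) :
      PicRel (compm (tens (assocm W X Y) (idm Z))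
          (compm (assocm W (.tensor X Y) Z) (tens (idm W) (assocm X Y Z))))
        (compm (assocm (.tensor W X) Y Z) (assocm W X (.tensor Y Z)))
  | triangle (X Y) :
      PicRel (compm (assocm X .unit Y) (tens (idm X) (leftm Y))) (tens (rightm X) (idm Y))
  | braid_natural {X Y X' Y'} (f : PicHom X Y) (g : PicHom X' Y') :
      PicRel (compm (tens f g) (braid Y Y')) (compm (braid X X') (tens g f))
  | hexagon_forward (X Y Z) :
      PicRel (compm (assocm X Y Z) (compm (braid X (.tensor Y Z)) (assocm Y Z X)))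
        (compm (tens (braid X Y) (idm Z)) (compm (assocm Y X Z) (tens (idm Y) (braid X Z))))
  | hexagon_reverse (X Y Z) :
      PicRel (compm (invm (assocm X Y Z)) (compm (braid (.tensor X Y) Z) (invm (assocm Z X Y))))
        (compm (tens (idm X) (braid Y Z)) (compm (invm (assocm X Z Y)) (tens (braid X Z) (idm Y))))
  | symmetry (X Y) : PicRel (compm (braid X Y) (braid Y X)) (idm (.tensor X Y))
  | of_id (a : A) : PicRel (of (𝟙 a)) (idm (.of a))
  | of_comp {a b c : A} (f : a ⟶ b) (g : b ⟶ c) : PicRel (of (f ≫ g)) (compm (of f) (of g))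
  | mu_natural {a b a' b' : A} (f : a ⟶ b) (g : a' ⟶ b') :
      PicRel (compm (tens (of f) (of g)) (mu b b')) (compm (mu a a') (of (f ⊗ₘ g)))
  | mu_assoc (a b c : A) :
      PicRel (compm (tens (mu a b) (idm (.of c))) (compm (mu (a ⊗ b) c) (of (α_ a b c).hom)))
        (compm (assocm (.of a) (.of b) (.of c)) (compm (tens (idm (.of a)) (mu b c)) (mu a (b ⊗ c))))
  | mu_left (a : A) :
      PicRel (leftm (.of a)) (compm (tens eps (idm (.of a))) (compm (mu (𝟙_ A) a) (of (λ_ a).hom)))
  | mu_right (a : A) :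
      PicRel (rightm (.of a)) (compm (tens (idm (.of a)) eps) (compm (mu a (𝟙_ A)) (of (ρ_ a).hom)))
  | mu_braid (a b : A) :
      PicRel (compm (mu a b) (of (β_ a b).hom)) (compm (braid (.of a) (.of b)) (mu b a))

instance picSetoid (X Y : PicObj A) : Setoid (PicHom X Y) :=
  ⟨PicRel, PicRel.refl, PicRel.symm, PicRel.trans⟩

instance : Category.{max u v} (PicObj A) where
  Hom X Y := Quotient (picSetoid X Y)
  id X := ⟦PicHom.idm X⟧
  comp := Quotient.map₂ PicHom.compm fun _ _ h _ _ h' => PicRel.comp_congr h h'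
  id_comp f := Quotient.inductionOn f fun f => Quotient.sound (PicRel.id_comp f)
  comp_id f := Quotient.inductionOn f fun f => Quotient.sound (PicRel.comp_id f)
  assoc f g h := Quotient.inductionOn₃ f g h fun f g h => Quotient.sound (PicRel.comp_assoc f g h)

/-- The class of a formal morphism. -/
abbrev picMk {X Y : PicObj A} (f : PicHom X Y) : X ⟶ Y := Quotient.mk (picSetoid X Y) f

lemma picMk_surjective {X Y : PicObj A} (f : X ⟶ Y) : ∃ g, picMk g = f :=
  Quotient.inductionOn f fun g => ⟨g, rfl⟩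

/-- The isomorphism given by a formal morphism. -/
def picIso {X Y : PicObj A} (f : PicHom X Y) : X ≅ Y where
  hom := picMk f
  inv := picMk (PicHom.invm f)
  hom_inv_id := Quotient.sound (PicRel.comp_inv f)
  inv_hom_id := Quotient.sound (PicRel.inv_comp f)

instance : IsGroupoid (PicObj A) where
  all_isIso f := by
    obtain ⟨g, rfl⟩ := picMk_surjective f
    exact (picIso g).isIso_hom

/-- Tensor product of classes of formal morphisms. -/
def picTensor {X Y X' Y' : PicObj A} (f : X ⟶ Y) (g : X' ⟶ Y') :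
    PicObj.tensor X X' ⟶ PicObj.tensor Y Y' :=
  Quotient.map₂ PicHom.tens (fun _ _ h _ _ h' => PicRel.tensor_congr h h') f g

instance : MonoidalCategoryStruct (PicObj A) where
  tensorObj := PicObj.tensor
  whiskerLeft X _ _ f := picTensor (𝟙 X) f
  whiskerRight f Y := picTensor f (𝟙 Y)
  tensorHom f g := picTensor f g
  tensorUnit := PicObj.unit
  associator X Y Z := picIso (PicHom.assocm X Y Z)
  leftUnitor X := picIso (PicHom.leftm X)
  rightUnitor X := picIso (PicHom.rightm X)

instance : MonoidalCategory (PicObj A) :=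
  MonoidalCategory.ofTensorHom
    (id_tensorHom_id := fun X Y => Quotient.sound (PicRel.tensor_id X Y))
    (id_tensorHom := fun _ _ _ _ => rfl)
    (tensorHom_id := fun _ _ => rfl)
    (tensorHom_comp_tensorHom := fun f₁ f₂ g₁ g₂ => by
      obtain ⟨f₁, rfl⟩ := picMk_surjective f₁
      obtain ⟨f₂, rfl⟩ := picMk_surjective f₂
      obtain ⟨g₁, rfl⟩ := picMk_surjective g₁
      obtain ⟨g₂, rfl⟩ := picMk_surjective g₂
      exact Quotient.sound (PicRel.tensor_comp f₁ f₂ g₁ g₂))
    (associator_naturality := fun f₁ f₂ f₃ => by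
      obtain ⟨f₁, rfl⟩ := picMk_surjective f₁
      obtain ⟨f₂, rfl⟩ := picMk_surjective f₂
      obtain ⟨f₃, rfl⟩ := picMk_surjective f₃
      exact Quotient.sound (PicRel.assoc_natural f₁ f₂ f₃))
    (leftUnitor_naturality := fun f => by
      obtain ⟨f, rfl⟩ := picMk_surjective f
      exact Quotient.sound (PicRel.left_natural f))
    (rightUnitor_naturality := fun f => by
      obtain ⟨f, rfl⟩ := picMk_surjective f
      exact Quotient.sound (PicRel.right_natural f))
    (pentagon := fun W X Y Z => Quotient.sound (PicRel.pentagon W X Y Z))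
    (triangle := fun X Y => Quotient.sound (PicRel.triangle X Y))

instance : SymmetricCategory (PicObj A) where
  braiding X Y := picIso (PicHom.braid X Y)
  braiding_naturality_right X {Y Z} f := by
    obtain ⟨f, rfl⟩ := picMk_surjective f
    exact Quotient.sound (PicRel.braid_natural (PicHom.idm X) f)
  braiding_naturality_left {X Y} f Z := by
    obtain ⟨f, rfl⟩ := picMk_surjective f
    exact Quotient.sound (PicRel.braid_natural f (PicHom.idm Z))
  hexagon_forward X Y Z := Quotient.sound (PicRel.hexagon_forward X Y Z)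
  hexagon_reverse X Y Z := Quotient.sound (PicRel.hexagon_reverse X Y Z)
  symmetry X Y := Quotient.sound (PicRel.symmetry X Y)

lemma picObj_invertible (X : PicObj A) :
    Nonempty (X ⊗ PicObj.dual X ≅ 𝟙_ (PicObj A)) ∧ Nonempty (PicObj.dual X ⊗ X ≅ 𝟙_ (PicObj A)) :=
  ⟨⟨picIso (PicHom.cancel X)⟩, ⟨β_ _ _ ≪≫ picIso (PicHom.cancel X)⟩⟩

variable (A) in
/-- The comparison functor to the hull. -/
def picIncl : A ⥤ PicObj A where
  obj := PicObj.of
  map f := picMk (PicHom.of f)
  map_id a := Quotient.sound (PicRel.of_id a)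
  map_comp f g := Quotient.sound (PicRel.of_comp f g)

lemma picMk_mu_natural {a b a' b' : A} (f : a ⟶ b) (g : a' ⟶ b') :
    ((picIncl A).map f ⊗ₘ (picIncl A).map g) ≫ picMk (PicHom.mu b b') =
      picMk (PicHom.mu a a') ≫ (picIncl A).map (f ⊗ₘ g) :=
  Quotient.sound (PicRel.mu_natural f g)

instance picIncl_laxBraided : (picIncl A).LaxBraided where
  ε := picMk PicHom.eps
  μ a b := picMk (PicHom.mu a b)
  μ_natural_left f X' := by
    have h := picMk_mu_natural f (𝟙 X')
    rw [CategoryTheory.Functor.map_id, tensorHom_id, tensorHom_id] at h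
    exact h
  μ_natural_right X' f := by
    have h := picMk_mu_natural (𝟙 X') f
    rw [CategoryTheory.Functor.map_id, id_tensorHom, id_tensorHom] at h
    exact h
  associativity a b c := Quotient.sound (PicRel.mu_assoc a b c)
  left_unitality a := Quotient.sound (PicRel.mu_left a)
  right_unitality a := Quotient.sound (PicRel.mu_right a)
  braided a b := Quotient.sound (PicRel.mu_braid a b)

section Eval

variable {P : Type u'} [Category.{v'} P] [MonoidalCategory P] [SymmetricCategory P] [IsGroupoid P]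
  (hP : ∀ X : P, (tensorLeft X).IsEquivalence)
  (Φ : A ⥤ P) [Φ.LaxBraided]

/-- A chosen inverse object. -/
def picDual (X : P) : P :=
  have := hP X
  (tensorLeft X).objPreimage (𝟙_ P)

/-- The cancellation for the chosen inverse object. -/
def picCancel (X : P) : X ⊗ picDual hP X ≅ 𝟙_ P :=
  have := hP X
  (tensorLeft X).objObjPreimageIso (𝟙_ P)

/-- Interpretation of formal objects. -/
def picEvalObj : PicObj A → P
  | .of a => Φ.obj a
  | .unit => 𝟙_ P
  | .tensor X Y => picEvalObj X ⊗ picEvalObj Y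
  | .dual X => picDual hP (picEvalObj X)

/-- Interpretation of formal morphisms. -/
def picEval : ∀ {X Y : PicObj A}, PicHom X Y → (picEvalObj hP Φ X ⟶ picEvalObj hP Φ Y)
  | _, _, .idm _ => 𝟙 _
  | _, _, .compm f g => picEval f ≫ picEval g
  | _, _, .invm f => CategoryTheory.inv (picEval f)
  | _, _, .tens f g => picEval f ⊗ₘ picEval g
  | _, _, .assocm _ _ _ => (α_ _ _ _).hom
  | _, _, .leftm _ => (λ_ _).hom
  | _, _, .rightm _ => (ρ_ _).hom
  | _, _, .braid _ _ => (β_ _ _).hom
  | _, _, .of f => Φ.map f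
  | _, _, .mu a b => μ Φ a b
  | _, _, .eps => ε Φ
  | _, _, .cancel _ => (picCancel hP _).hom

lemma picEval_rel {X Y : PicObj A} {f g : PicHom X Y} (h : PicRel f g) :
    picEval hP Φ f = picEval hP Φ g := by
  induction h with
  | refl f => rfl
  | symm _ ih => exact ih.symm
  | trans _ _ ih ih' => exact ih.trans ih'
  | comp_congr _ _ ih ih' => simp [picEval, ih, ih']
  | inv_congr _ ih => simp [picEval, ih]
  | tensor_congr _ _ ih ih' => simp [picEval, ih, ih']
  | id_comp f => simp [picEval]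
  | comp_id f => simp [picEval]
  | comp_assoc f g h => simp [picEval]
  | inv_comp f => simp [picEval]
  | comp_inv f => simp [picEval]
  | tensor_id X Y => simp [picEval, picEvalObj]
  | tensor_comp f f' g g' => simp [picEval, picEvalObj]
  | assoc_natural f₁ f₂ f₃ => simp [picEval, picEvalObj, associator_naturality]
  | left_natural f => simp [picEval, picEvalObj, leftUnitor_naturality]
  | right_natural f => simp [picEval, picEvalObj, rightUnitor_naturality]
  | pentagon W X Y Z => simp [picEval, picEvalObj]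
  | triangle X Y => simp [picEval, picEvalObj]
  | braid_natural f g => simp [picEval, picEvalObj]
  | hexagon_forward X Y Z => simp [picEval, picEvalObj, BraidedCategory.hexagon_forward]
  | hexagon_reverse X Y Z => simp [picEval, picEvalObj, BraidedCategory.hexagon_reverse]
  | symmetry X Y => simp [picEval, picEvalObj]
  | of_id a => simp [picEval, picEvalObj]
  | of_comp f g => simp [picEval, picEvalObj]
  | mu_natural f g => simp [picEval, picEvalObj, tensorHom_def]
  | mu_assoc a b c => simp [picEval, picEvalObj]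
  | mu_left a => simp [picEval, picEvalObj]
  | mu_right a => simp [picEval, picEvalObj]
  | mu_braid a b => simp [picEval, picEvalObj, Functor.LaxBraided.braided]

/-- The functor induced on the hull. -/
def picLift : PicObj A ⥤ P where
  obj := picEvalObj hP Φ
  map := Quotient.lift (picEval hP Φ) fun _ _ h => picEval_rel hP Φ h
  map_id _ := rfl
  map_comp f g := by
    obtain ⟨f, rfl⟩ := picMk_surjective f
    obtain ⟨g, rfl⟩ := picMk_surjective g
    rfl

@[simp] lemma picLift_map {X Y : PicObj A} (f : PicHom X Y) :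
    (picLift hP Φ).map (picMk f) = picEval hP Φ f := rfl

instance picLift_laxBraided : (picLift hP Φ).LaxBraided where
  ε := 𝟙 _
  μ _ _ := 𝟙 _
  μ_natural_left {X Y} f X' := by
    obtain ⟨f, rfl⟩ := picMk_surjective f
    change picEval hP Φ f ▷ _ ≫ 𝟙 _ = 𝟙 _ ≫ (picEval hP Φ f ⊗ₘ 𝟙 (picEvalObj hP Φ X'))
    simp
  μ_natural_right {X Y} X' f := by
    obtain ⟨f, rfl⟩ := picMk_surjective f
    change _ ◁ picEval hP Φ f ≫ 𝟙 _ = 𝟙 _ ≫ (𝟙 (picEvalObj hP Φ X') ⊗ₘ picEval hP Φ f)
    simp
  associativity X Y Z := by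
    change 𝟙 _ ▷ _ ≫ 𝟙 _ ≫ (α_ _ _ _).hom = (α_ _ _ _).hom ≫ _ ◁ 𝟙 _ ≫ 𝟙 _
    simp
  left_unitality X := by
    change (λ_ _).hom = 𝟙 _ ▷ _ ≫ 𝟙 _ ≫ (λ_ _).hom
    simp
  right_unitality X := by
    change (ρ_ _).hom = _ ◁ 𝟙 _ ≫ 𝟙 _ ≫ (ρ_ _).hom
    simp
  braided X Y := by
    change 𝟙 _ ≫ (β_ _ _).hom = (β_ _ _).hom ≫ 𝟙 _
    simp

/-- The induced functor restricts to the given one. -/
def picLiftIso : picIncl A ⋙ picLift hP Φ ≅ Φ :=
  NatIso.ofComponents (fun _ => Iso.refl _) fun f => by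
    simp only [Iso.refl_hom, Functor.comp_map]
    exact (Category.comp_id _).trans (Category.id_comp _).symm

instance picLiftIso_isMonoidal : NatTrans.IsMonoidal (picLiftIso hP Φ).hom where
  unit := by
    change (𝟙 _ ≫ ε Φ) ≫ 𝟙 _ = ε Φ
    simp
  tensor a b := by
    change (𝟙 _ ≫ μ Φ a b) ≫ 𝟙 _ = (𝟙 (Φ.obj a) ⊗ₘ 𝟙 (Φ.obj b)) ≫ μ Φ a b
    simp

end Eval

section Ext

variable {P : Type u'} [Category.{v'} P] [MonoidalCategory P] [SymmetricCategory P] [IsGroupoid P]
  (hP : ∀ X : P, (tensorLeft X).IsEquivalence)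
  {Ψ Ψ' : PicObj A ⥤ P} [Ψ.LaxBraided] [Ψ'.LaxBraided]
  (τ : picIncl A ⋙ Ψ ⟶ picIncl A ⋙ Ψ')

/-- The value of the extension at the unit. -/
def picExtUnit : Ψ.obj (𝟙_ (PicObj A)) ⟶ Ψ'.obj (𝟙_ (PicObj A)) := inv (ε Ψ) ≫ ε Ψ'

/-- The extension of a natural transformation to the hull, on objects. -/
def picExtApp : ∀ X : PicObj A, Ψ.obj X ⟶ Ψ'.obj X
  | .of a => τ.app a
  | .unit => picExtUnit
  | .tensor X Y => inv (μ Ψ X Y) ≫ (picExtApp X ⊗ₘ picExtApp Y) ≫ μ Ψ' X Y
  | .dual X =>
    have := hP (Ψ.obj X)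
    (tensorLeft (Ψ.obj X)).preimage
      (μ Ψ X (.dual X) ≫ Ψ.map (picMk (PicHom.cancel X)) ≫ picExtUnit ≫
        inv (Ψ'.map (picMk (PicHom.cancel X))) ≫ inv (μ Ψ' X (.dual X)) ≫
        inv (picExtApp X) ▷ Ψ'.obj (.dual X))

lemma picExtApp_tensor (X Y : PicObj A) :
    μ Ψ X Y ≫ picExtApp hP τ (X ⊗ Y) = (picExtApp hP τ X ⊗ₘ picExtApp hP τ Y) ≫ μ Ψ' X Y := by
  change _ ≫ inv (μ Ψ X Y) ≫ _ = _
  simp

lemma picExtApp_unit : picExtApp hP τ (𝟙_ (PicObj A)) = picExtUnit := rfl

lemma picExtApp_natural [NatTrans.IsMonoidal τ] {X Y : PicObj A} (f : PicHom X Y) :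
    Ψ.map (picMk f) ≫ picExtApp hP τ Y = picExtApp hP τ X ≫ Ψ'.map (picMk f) := by
  induction f with
  | idm X =>
    change Ψ.map (𝟙 X) ≫ _ = _ ≫ Ψ'.map (𝟙 X)
    simp
  | @compm X Y Z f g ihf ihg =>
    change Ψ.map (picMk f ≫ picMk g) ≫ _ = _ ≫ Ψ'.map (picMk f ≫ picMk g)
    simp [ihg, reassoc_of% ihf]
  | @invm X Y f ih =>
    change Ψ.map (picIso f).inv ≫ _ = _ ≫ Ψ'.map (picIso f).inv
    rw [← cancel_epi (Ψ.map (picIso f).hom), ← cancel_mono (Ψ'.map (picIso f).hom)]
    simp only [Category.assoc, ← Ψ'.map_comp, ← Ψ.map_comp_assoc, Iso.hom_inv_id, Iso.inv_hom_id,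
      CategoryTheory.Functor.map_id, Category.comp_id, Category.id_comp]
    exact ih.symm
  | @tens X Y X' Y' f g ihf ihg =>
    change Ψ.map (picMk f ⊗ₘ picMk g) ≫ picExtApp hP τ (Y ⊗ Y') =
      picExtApp hP τ (X ⊗ X') ≫ Ψ'.map (picMk f ⊗ₘ picMk g)
    have h₁ : (Ψ.map (picMk f) ⊗ₘ Ψ.map (picMk g)) ≫ μ Ψ Y Y' =
        μ Ψ X X' ≫ Ψ.map (picMk f ⊗ₘ picMk g) := by
      simp [tensorHom_def]
    have h₂ : (Ψ'.map (picMk f) ⊗ₘ Ψ'.map (picMk g)) ≫ μ Ψ' Y Y' =
        μ Ψ' X X' ≫ Ψ'.map (picMk f ⊗ₘ picMk g) := by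
      simp [tensorHom_def]
    rw [← cancel_epi (μ Ψ X X'), ← reassoc_of% h₁, picExtApp_tensor,
      reassoc_of% (picExtApp_tensor hP τ X X'), ← h₂, tensorHom_comp_tensorHom_assoc,
      tensorHom_comp_tensorHom_assoc, ihf, ihg]
  | assocm X Y Z =>
    change Ψ.map (α_ X Y Z).hom ≫ picExtApp hP τ (X ⊗ Y ⊗ Z) =
      picExtApp hP τ ((X ⊗ Y) ⊗ Z) ≫ Ψ'.map (α_ X Y Z).hom
    rw [← cancel_epi (μ Ψ X Y ▷ Ψ.obj Z ≫ μ Ψ (X ⊗ Y) Z), Category.assoc, Category.assoc,
      reassoc_of% (associativity Ψ X Y Z), reassoc_of% (picExtApp_tensor hP τ (X ⊗ Y) Z),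
      picExtApp_tensor, ← tensorHom_id, tensorHom_comp_tensorHom_assoc,
      ← id_tensorHom, tensorHom_comp_tensorHom_assoc, Category.id_comp, picExtApp_tensor,
      picExtApp_tensor, Category.id_comp]
    conv_rhs => rw [← Category.comp_id (picExtApp hP τ Z), ← tensorHom_comp_tensorHom, tensorHom_id,
      Category.assoc, associativity Ψ' X Y Z, associator_naturality_assoc]
    conv_lhs => rw [← Category.comp_id (picExtApp hP τ X), ← tensorHom_comp_tensorHom, id_tensorHom]
    simp
  | leftm X =>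
    change Ψ.map (λ_ X).hom ≫ picExtApp hP τ X = picExtApp hP τ (𝟙_ _ ⊗ X) ≫ Ψ'.map (λ_ X).hom
    rw [← cancel_epi (ε Ψ ▷ Ψ.obj X ≫ μ Ψ (𝟙_ _) X)]
    simp only [Category.assoc]
    rw [← reassoc_of% (left_unitality Ψ X), reassoc_of% (picExtApp_tensor hP τ (𝟙_ _) X),
      picExtApp_unit, ← tensorHom_id, tensorHom_comp_tensorHom_assoc, picExtUnit,
      IsIso.hom_inv_id_assoc, Category.id_comp, ← leftUnitor_naturality, ← id_tensorHom,
      left_unitality Ψ' X, ← tensorHom_id, tensorHom_comp_tensorHom_assoc]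
    simp
  | rightm X =>
    change Ψ.map (ρ_ X).hom ≫ picExtApp hP τ X = picExtApp hP τ (X ⊗ 𝟙_ _) ≫ Ψ'.map (ρ_ X).hom
    rw [← cancel_epi (Ψ.obj X ◁ ε Ψ ≫ μ Ψ X (𝟙_ _))]
    simp only [Category.assoc]
    rw [← reassoc_of% (right_unitality Ψ X), reassoc_of% (picExtApp_tensor hP τ X (𝟙_ _)),
      picExtApp_unit, ← id_tensorHom, tensorHom_comp_tensorHom_assoc, picExtUnit,
      IsIso.hom_inv_id_assoc, Category.id_comp, ← rightUnitor_naturality, ← tensorHom_id,
      right_unitality Ψ' X, ← id_tensorHom, tensorHom_comp_tensorHom_assoc]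
    simp
  | braid X Y =>
    change Ψ.map (β_ X Y).hom ≫ picExtApp hP τ (Y ⊗ X) =
      picExtApp hP τ (X ⊗ Y) ≫ Ψ'.map (β_ X Y).hom
    rw [← cancel_epi (μ Ψ X Y), reassoc_of% (Functor.LaxBraided.braided (F := Ψ) X Y),
      picExtApp_tensor, reassoc_of% (picExtApp_tensor hP τ X Y),
      Functor.LaxBraided.braided (F := Ψ') X Y, BraidedCategory.braiding_naturality_assoc]
  | @of a b f => exact τ.naturality f
  | mu a b =>
    change Ψ.map (μ (picIncl A) a b) ≫ τ.app (a ⊗ b) =
      picExtApp hP τ ((picIncl A).obj a ⊗ (picIncl A).obj b) ≫ Ψ'.map (μ (picIncl A) a b)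
    rw [← cancel_epi (μ Ψ ((picIncl A).obj a) ((picIncl A).obj b)),
      reassoc_of% (picExtApp_tensor hP τ ((picIncl A).obj a) ((picIncl A).obj b))]
    have := NatTrans.IsMonoidal.tensor (τ := τ) a b
    simp only [Functor.LaxMonoidal.comp_μ, Category.assoc] at this
    exact this
  | eps =>
    change Ψ.map (ε (picIncl A)) ≫ τ.app (𝟙_ A) = picExtUnit ≫ Ψ'.map (ε (picIncl A))
    rw [← cancel_epi (ε Ψ), picExtUnit]
    have := NatTrans.IsMonoidal.unit (τ := τ)
    simp only [Functor.LaxMonoidal.comp_ε, Category.assoc] at this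
    simpa using this
  | cancel X =>
    change Ψ.map (picMk (PicHom.cancel X)) ≫ picExtApp hP τ (𝟙_ _) =
      picExtApp hP τ (X ⊗ PicObj.dual X) ≫ Ψ'.map (picMk (PicHom.cancel X))
    have := hP (Ψ.obj X)
    rw [← cancel_epi (μ Ψ X (.dual X)), reassoc_of% (picExtApp_tensor hP τ X (PicObj.dual X)),
      tensorHom_def', picExtApp_unit]
    simp only [Category.assoc]
    change _ = (tensorLeft (Ψ.obj X)).map (picExtApp hP τ (.dual X)) ≫ _
    rw [picExtApp, Functor.map_preimage]
    simp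
    erw [IsIso.inv_hom_id, Category.comp_id]
    rfl

/-- The extension of a monoidal natural transformation to the hull. -/
def picExt [NatTrans.IsMonoidal τ] : Ψ ⟶ Ψ' where
  app := picExtApp hP τ
  naturality X Y f := by
    obtain ⟨f, rfl⟩ := picMk_surjective f
    exact picExtApp_natural hP τ f

instance picExt_isMonoidal [NatTrans.IsMonoidal τ] : NatTrans.IsMonoidal (picExt hP τ) where
  unit := by
    change ε Ψ ≫ picExtUnit = ε Ψ'
    simp [picExtUnit]
  tensor X Y := picExtApp_tensor hP τ X Y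

lemma picExt_unique [NatTrans.IsMonoidal τ] (θ : Ψ ⟶ Ψ') [NatTrans.IsMonoidal θ]
    (h : Functor.whiskerLeft (picIncl A) θ = τ) : θ = picExt hP τ := by
  ext X
  change θ.app X = picExtApp hP τ X
  induction X with
  | of a =>
    rw [picExtApp, ← h]
    rfl
  | unit =>
    change θ.app (𝟙_ _) = picExtApp hP τ (𝟙_ _)
    rw [← cancel_epi (ε Ψ), NatTrans.IsMonoidal.unit, picExtApp_unit, picExtUnit,
      IsIso.hom_inv_id_assoc]
  | tensor X Y ihX ihY =>
    change θ.app (X ⊗ Y) = picExtApp hP τ (X ⊗ Y)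
    rw [← cancel_epi (μ Ψ X Y), NatTrans.IsMonoidal.tensor, picExtApp_tensor, ihX, ihY]
  | dual X ih =>
    have := hP (Ψ.obj X)
    have h₁ := NatTrans.IsMonoidal.tensor (τ := θ) X (PicObj.dual X)
    have h₂ := θ.naturality (picMk (PicHom.cancel X))
    have h₃ := picExtApp_tensor hP τ X (PicObj.dual X)
    have h₄ := picExtApp_natural hP τ (PicHom.cancel X)
    have hu : θ.app (𝟙_ (PicObj A)) = picExtApp hP τ (𝟙_ (PicObj A)) := by
      rw [← cancel_epi (ε Ψ), NatTrans.IsMonoidal.unit, picExtApp_unit, picExtUnit,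
        IsIso.hom_inv_id_assoc]
    have hm : θ.app (X ⊗ PicObj.dual X) = picExtApp hP τ (X ⊗ PicObj.dual X) := by
      rw [← cancel_mono (Ψ'.map (picMk (PicHom.cancel X)))]
      exact h₂.symm.trans ((congrArg (_ ≫ ·) hu).trans h₄)
    apply (tensorLeft (Ψ.obj X)).map_injective
    change Ψ.obj X ◁ θ.app _ = Ψ.obj X ◁ picExtApp hP τ _
    rw [hm, h₃, ih] at h₁
    rw [tensorHom_def', tensorHom_def', Category.assoc, Category.assoc] at h₁
    exact ((cancel_mono (picExtApp hP τ X ▷ _ ≫ μ Ψ' X (PicObj.dual X))).1 h₁).symm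

end Ext

end Groth.Agent.H14Cat
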